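import Mathlib.AlgebraicGeometry.Noetherian
import Mathlib.RingTheory.Ideal.KrullsHeightTheorem
import Mathlib.RingTheory.Ideal.Height
import Groth.Agent.Sga3C.DimTop

/-!
# Locally closed points of locally Noetherian schemes

* `exists_prime_notMem`: in a Noetherian ring, for primes `p < q < r` and `f ∉ p` there is a prime
  `p < q' ≤ r` with `f ∉ q'`.
* `isClosed_of_mem_closure`: if `{x}` is locally closed in a locally Noetherian scheme, every other point
  of its closure is closed.
* `dim_closure_le_one`.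
-/

set_option autoImplicit false

namespace K111.LocClosedPt

universe u

/-- In a Noetherian domain, an ideal lying strictly above a nonzero prime contains nonzero primes
avoiding a given nonzero element. -/
theorem exists_prime_notMem_domain {B : Type*} [CommRing B] [IsDomain B] [IsNoetherianRing B]
    (q r : Ideal B) [q.IsPrime] [r.IsPrime] (hq : q ≠ ⊥) (hqr : q < r) (f : B) (hf : f ≠ 0) :
    ∃ q' : Ideal B, q'.IsPrime ∧ q' ≠ ⊥ ∧ q' ≤ r ∧ f ∉ q' := by
  by_contra hcon
  push Not at hcon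
  have hcon' : ∀ q' : Ideal B, q'.IsPrime → q' ≠ ⊥ → q' ≤ r → f ∈ q' := by
    intro q' h1 h2 h3
    exact hcon q' h1 h2 h3
  -- a nonzero prime which is minimal over a principal ideal is minimal among nonzero primes
  have hmin : ∀ (g : B) (P : Ideal B), P ∈ (Ideal.span {g}).minimalPrimes →
      ∀ Q : Ideal B, Q.IsPrime → Q ≠ ⊥ → Q ≤ P → Q = P := by
    intro g P hP Q hQ hQ0 hQP
    by_contra hne
    have hPp : P.IsPrime := hP.1.1
    have h1 : P.height ≤ 1 := Ideal.height_le_one_of_isPrincipal_of_mem_minimalPrimes (Ideal.span {g}) P hP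
    have hlt : Q < P := lt_of_le_of_ne hQP hne
    have h2 : Q.height + 1 ≤ P.height := Ideal.height_add_one_le_of_lt_of_isPrime hlt
    have h3 : Q.height + 1 ≤ 0 + 1 := by rw [zero_add]; exact h2.trans h1
    have h4 : Q.height ≤ 0 := (ENat.add_le_add_iff_right (by simp)).mp h3
    exact hQ0 (Ideal.height_eq_zero_iff_eq_bot.mp (le_antisymm h4 bot_le))
  have hfin : ((Ideal.span {f}).minimalPrimes).Finite := Ideal.finite_minimalPrimes_of_isNoetherianRing B _
  have hfq : f ∈ q := hcon' q inferInstance hq hqr.le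
  -- prime avoidance
  have hav : ¬ ((r : Set B) ⊆ ⋃ P ∈ (Ideal.span {f}).minimalPrimes, (P : Set B)) := by
    intro hsub
    obtain ⟨P, hP, hrP⟩ := (r.subset_union_prime_finite hfin (f := id) 0 0
      (fun _ h _ _ => h.1.1)).1 (by simpa using hsub)
    have h1 : q ≤ P := hqr.le.trans hrP
    have h2 := hmin f P hP q inferInstance hq h1
    exact absurd (h2 ▸ hrP : r ≤ q) (not_le_of_gt hqr)
  obtain ⟨g, hgr, hg⟩ := Set.not_subset.mp hav
  simp only [Set.mem_iUnion, SetLike.mem_coe, not_exists] at hg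
  obtain ⟨P', hP', hP'r⟩ := Ideal.exists_minimalPrimes_le
    (show Ideal.span {g} ≤ r from (Ideal.span_singleton_le_iff_mem r).mpr hgr)
  have hP'p : P'.IsPrime := hP'.1.1
  have hgP' : g ∈ P' := hP'.1.2 (Ideal.mem_span_singleton_self g)
  -- `g ≠ 0`
  have hg0 : g ≠ 0 := by
    rintro rfl
    obtain ⟨P, hP, -⟩ := Ideal.exists_minimalPrimes_le
      (show Ideal.span {f} ≤ q from (Ideal.span_singleton_le_iff_mem q).mpr hfq)
    exact hg P hP (P.zero_mem)
  have hP'0 : P' ≠ ⊥ := by
    rintro rfl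
    exact hg0 hgP'
  have hfP' : f ∈ P' := hcon' P' hP'p hP'0 hP'r
  obtain ⟨P, hP, hPP'⟩ := Ideal.exists_minimalPrimes_le
    (show Ideal.span {f} ≤ P' from (Ideal.span_singleton_le_iff_mem P').mpr hfP')
  have hP0 : P ≠ ⊥ := by
    rintro rfl
    exact hf (hP.1.2 (Ideal.mem_span_singleton_self f))
  have hPp : P.IsPrime := hP.1.1
  have := hmin g P' hP' P hPp hP0 hPP'
  exact hg P hP (this ▸ hgP')

/-- In a Noetherian ring, for primes `p < q < r` and `f ∉ p` there is a prime `p < q' ≤ r` with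
`f ∉ q'`. -/
theorem exists_prime_notMem {A : Type*} [CommRing A] [IsNoetherianRing A]
    (p q r : Ideal A) [p.IsPrime] [q.IsPrime] [r.IsPrime] (hpq : p < q) (hqr : q < r) (f : A)
    (hf : f ∉ p) : ∃ q' : Ideal A, q'.IsPrime ∧ p < q' ∧ q' ≤ r ∧ f ∉ q' := by
  have hq' : (q.map (Ideal.Quotient.mk p)).IsPrime :=
    Ideal.map_isPrime_of_surjective Ideal.Quotient.mk_surjective (by rw [Ideal.mk_ker]; exact hpq.le)
  have hr' : (r.map (Ideal.Quotient.mk p)).IsPrime :=
    Ideal.map_isPrime_of_surjective Ideal.Quotient.mk_surjective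
      (by rw [Ideal.mk_ker]; exact (hpq.trans hqr).le)
  have hcm : ∀ I : Ideal A, p ≤ I → (I.map (Ideal.Quotient.mk p)).comap (Ideal.Quotient.mk p) = I := by
    intro I hI
    rw [Ideal.comap_map_of_surjective _ Ideal.Quotient.mk_surjective, ← RingHom.ker_eq_comap_bot,
      Ideal.mk_ker, sup_eq_left.mpr hI]
  obtain ⟨Q, hQ, hQ0, hQr, hfQ⟩ := exists_prime_notMem_domain (q.map (Ideal.Quotient.mk p))
    (r.map (Ideal.Quotient.mk p)) (by
      intro h
      have h1 := hcm q hpq.le
      rw [h, ← RingHom.ker_eq_comap_bot, Ideal.mk_ker] at h1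
      exact hpq.ne h1) (by
      refine lt_of_le_of_ne (Ideal.map_mono hqr.le) fun h => ?_
      have h1 := hcm q hpq.le
      rw [h, hcm r (hpq.trans hqr).le] at h1
      exact hqr.ne' h1) (Ideal.Quotient.mk p f) (by
      rwa [Ne, Ideal.Quotient.eq_zero_iff_mem])
  refine ⟨Q.comap (Ideal.Quotient.mk p), inferInstance, ?_, ?_, ?_⟩
  · refine lt_of_le_of_ne ?_ ?_
    · intro a ha
      rw [Ideal.mem_comap, Ideal.Quotient.eq_zero_iff_mem.mpr ha]
      exact Q.zero_mem
    · intro h
      apply hQ0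
      rw [← Ideal.map_comap_of_surjective _ Ideal.Quotient.mk_surjective Q, ← h, Ideal.map_quotient_self]
  · rw [← hcm r (hpq.trans hqr).le]
    exact Ideal.comap_mono hQr
  · exact hfQ

open AlgebraicGeometry Topology

/-- If `{x}` is locally closed in a locally Noetherian scheme, then every other point of the closure of
`x` is closed. -/
theorem isClosed_of_mem_closure (X : Scheme.{u}) [IsLocallyNoetherian X] (x : X)
    (hx : IsLocallyClosed ({x} : Set X)) (y : X) (hy : y ∈ closure ({x} : Set X)) (hyx : y ≠ x) :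
    IsClosed ({y} : Set X) := by
  rw [← closure_subset_iff_isClosed]
  intro z hz
  rw [Set.mem_singleton_iff]
  by_contra hzy
  obtain ⟨_, ⟨U, hU, rfl⟩, hzU, -⟩ := X.isBasis_affineOpens.exists_subset_of_mem_open
    (Set.mem_univ z) isOpen_univ
  replace hU : IsAffineOpen U := hU
  have hyz : y ⤳ z := specializes_iff_mem_closure.mpr hz
  have hxy : x ⤳ y := specializes_iff_mem_closure.mpr hy
  have hyU : y ∈ U := hyz.mem_open U.isOpen hzU
  have hxU : x ∈ U := hxy.mem_open U.isOpen hyU
  have hrange := hU.range_fromSpec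
  obtain ⟨r, rfl⟩ : z ∈ Set.range hU.fromSpec := by rw [hrange]; exact hzU
  obtain ⟨q, rfl⟩ : y ∈ Set.range hU.fromSpec := by rw [hrange]; exact hyU
  obtain ⟨p, rfl⟩ : x ∈ Set.range hU.fromSpec := by rw [hrange]; exact hxU
  have hind : IsInducing hU.fromSpec := hU.fromSpec.isOpenEmbedding.isInducing
  have hinj : Function.Injective hU.fromSpec := hU.fromSpec.isOpenEmbedding.injective
  rw [hind.specializes_iff] at hyz hxy
  have h1 : p.asIdeal ≤ q.asIdeal := (PrimeSpectrum.le_iff_specializes p q).mpr hxy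
  have h2 : q.asIdeal ≤ r.asIdeal := (PrimeSpectrum.le_iff_specializes q r).mpr hyz
  have h1' : p.asIdeal < q.asIdeal := lt_of_le_of_ne h1 fun h => hyx (by rw [PrimeSpectrum.ext h])
  have h2' : q.asIdeal < r.asIdeal := lt_of_le_of_ne h2 fun h => hzy (by rw [PrimeSpectrum.ext h])
  -- `{p}` is locally closed
  have hp : IsLocallyClosed ({p} : Set (Spec Γ(X, U))) := by
    have : ({p} : Set (Spec Γ(X, U))) = hU.fromSpec ⁻¹' {hU.fromSpec p} := by
      ext a
      simp only [Set.mem_singleton_iff, Set.mem_preimage]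
      exact ⟨fun h => by rw [h], fun h => hinj h⟩
    rw [this]
    exact hx.preimage hU.fromSpec.continuous
  obtain ⟨O, C, hO, hC, hOC⟩ := hp
  have hpOC : p ∈ O ∩ C := by rw [← hOC]; rfl
  obtain ⟨_, ⟨f, rfl⟩, hfp, hfO⟩ :=
    (PrimeSpectrum.isTopologicalBasis_basic_opens (R := Γ(X, U))).exists_subset_of_mem_open hpOC.1 hO
  have : IsNoetherianRing Γ(X, U) := IsLocallyNoetherian.component_noetherian ⟨U, hU⟩
  have hpp : p.asIdeal.IsPrime := p.2
  have hqp : q.asIdeal.IsPrime := q.2
  have hrp : r.asIdeal.IsPrime := r.2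
  obtain ⟨Q, hQ, hpQ, hQr, hfQ⟩ := exists_prime_notMem p.asIdeal q.asIdeal r.asIdeal h1' h2' f hfp
  have h3 : (⟨Q, hQ⟩ : Spec Γ(X, U)) ∈ O ∩ C := by
    refine ⟨hfO hfQ, ?_⟩
    have : p ⤳ (⟨Q, hQ⟩ : Spec Γ(X, U)) := (PrimeSpectrum.le_iff_specializes p ⟨Q, hQ⟩).mp hpQ.le
    exact this.mem_closed hC hpOC.2
  have h4 : (⟨Q, hQ⟩ : Spec Γ(X, U)) ∈ ({p} : Set (Spec Γ(X, U))) := by rw [hOC]; exact h3
  exact hpQ.ne (congrArg PrimeSpectrum.asIdeal (Set.mem_singleton_iff.mp h4)).symm

attribute [local instance] specializationOrder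

/-- The closure of a locally closed point of a locally Noetherian scheme has dimension at most one. -/
theorem dim_closure_le_one (X : Scheme.{u}) [IsLocallyNoetherian X] (x : X)
    (hx : IsLocallyClosed ({x} : Set X)) :
    topologicalKrullDim (closure ({x} : Set X)) ≤ 1 := by
  have hq : QuasiSober (closure ({x} : Set X)) :=
    isClosed_closure.isClosedEmbedding_subtypeVal.quasiSober
  rw [Groth.Agent.Sga3C.DimTop.topologicalKrullDim_eq_krullDim]
  refine (@Order.krullDim_le_one_iff _ (specializationOrder (closure ({x} : Set X))).toPreorder).mpr ?_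
  rintro ⟨y, hy⟩
  by_cases hyx : y = x
  · right
    subst hyx
    rintro ⟨z, hz⟩ _
    change (⟨y, hy⟩ : closure ({y} : Set X)) ⤳ ⟨z, hz⟩
    rw [subtype_specializes_iff, specializes_iff_mem_closure]
    exact hz
  · left
    have hcl := isClosed_of_mem_closure X x hx y hy hyx
    rintro ⟨z, hz⟩ hzy
    replace hzy : (⟨y, hy⟩ : closure ({x} : Set X)) ⤳ ⟨z, hz⟩ := hzy
    change (⟨z, hz⟩ : closure ({x} : Set X)) ⤳ ⟨y, hy⟩
    rw [subtype_specializes_iff, specializes_iff_mem_closure] at hzy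
    have : z = y := by
      have := hcl.closure_eq ▸ hzy
      exact this
    subst this
    exact specializes_rfl

/-- In a locally Noetherian scheme every nonempty closed subset contains a closed point. -/
theorem exists_isClosed_singleton (X : Scheme.{u}) [IsLocallyNoetherian X] (Z : Set X) (hZ : IsClosed Z)
    (x : X) (hxZ : x ∈ Z) (hx : IsLocallyClosed ({x} : Set X)) :
    ∃ y ∈ Z, IsClosed ({y} : Set X) := by
  by_cases h : IsClosed ({x} : Set X)
  · exact ⟨x, hxZ, h⟩
  · rw [← closure_subset_iff_isClosed, Set.not_subset] at h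
    obtain ⟨y, hy, hyx⟩ := h
    exact ⟨y, (closure_minimal (Set.singleton_subset_iff.mpr hxZ) hZ) hy,
      isClosed_of_mem_closure X x hx y hy hyx⟩

end K111.LocClosedPt
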