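import Groth.Agent.Ega4B.DepthFinite
import Groth.Agent.Ega4A.RegCM
import Mathlib.RingTheory.Ideal.KrullsHeightTheorem
import Mathlib.RingTheory.Support

/-!
# Embedding `R/P` in a module of large depth, `R` Cohen-Macaulay

`exists_module`: for `R` Noetherian with `depth R_p = ht p` for all primes `p` (for instance `R` regular) and
`P` a prime, there is a finite module `M` with `P ∈ Ass M` and `depth M_p + ht P = ht p` for every
prime `p` of the support.
-/

set_option autoImplicit false
universe u

namespace K111.CMEmbed

open Groth.Agent.Ega4B

theorem depth_atPrime_self (R : Type u) [CommRing R] (p : Ideal R) [p.IsPrime] :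
    LocCoh.depth (Localization.AtPrime p) (LocalizedModule p.primeCompl R) =
      LocCoh.depth (Localization.AtPrime p) (Localization.AtPrime p) := by
  have e0 := IsLocalizedModule.linearEquiv p.primeCompl
    (LocalizedModule.mkLinearMap p.primeCompl R) (Algebra.linearMap R (Localization.AtPrime p))
  have e : LocalizedModule p.primeCompl R ≃ₗ[Localization.AtPrime p] Localization.AtPrime p :=
    LinearEquiv.extendScalarsOfIsLocalization p.primeCompl (Localization.AtPrime p) e0
  exact DepthBasic.depth_congr e

/-- The depth of a localization of a regular ring is the height. -/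
theorem depth_eq_height_of_isRegularRing (R : Type u) [CommRing R] [IsRegularRing R] (p : Ideal R)
    [p.IsPrime] : LocCoh.depth (Localization.AtPrime p) (Localization.AtPrime p) = p.height := by
  have h1 : IsRegularLocalRing (Localization.AtPrime p) :=
    IsRegularRing.isRegularLocalRing_localization p
  have h2 := (Groth.Agent.Ega4A.RegCM.isCohenMacaulayLocalRing_of_isRegularLocalRing
    (Localization.AtPrime p)).supportDim_eq_depth
  rw [Module.supportDim_self_eq_ringKrullDim,
    IsLocalization.AtPrime.ringKrullDim_eq_height p (Localization.AtPrime p), WithBot.coe_inj] at h2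
  exact h2.symm

variable (R : Type u) [CommRing R] [IsNoetherianRing R]

theorem exists_module_aux (P : Ideal R) [hP : P.IsPrime] (n : ℕ) (hn : P.height = n)
    (hCM : ∀ (p : Ideal R) [p.IsPrime],
      LocCoh.depth (Localization.AtPrime p) (Localization.AtPrime p) = p.height) (i : ℕ) (hi : i ≤ n) :
    ∃ (M : Type u) (_ : AddCommGroup M) (_ : Module R M), Module.Finite R M ∧
      (⟨P, hP⟩ : PrimeSpectrum R) ∈ Module.support R M ∧
      ∀ p : PrimeSpectrum R, p ∈ Module.support R M →
        LocCoh.depth (Localization.AtPrime p.asIdeal) (LocalizedModule p.asIdeal.primeCompl M) + i =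
          p.asIdeal.height := by
  induction i with
  | zero =>
    refine ⟨R, inferInstance, inferInstance, inferInstance, ?_, fun p _ => ?_⟩
    · rw [Module.support_eq_zeroLocus, PrimeSpectrum.mem_zeroLocus]
      intro x hx
      have h1 : x = 0 := by
        have := Module.mem_annihilator.mp hx 1
        simpa using this
      rw [h1]
      exact P.zero_mem
    · rw [← hCM p.asIdeal, Nat.cast_zero, add_zero, depth_atPrime_self R p.asIdeal]
  | succ i ih =>
    obtain ⟨M, _, _, hfin, hPM, hdep⟩ := ih (Nat.le_of_succ_le hi)
    -- `P` is contained in no associated prime of `M`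
    have hno : ∀ q ∈ associatedPrimes R M, ¬ P ≤ q := by
      intro q hq hPq
      have hqp : q.IsPrime := IsAssociatedPrime.isPrime hq
      have h1 : LocCoh.depth (Localization.AtPrime q) (LocalizedModule q.primeCompl M) = 0 := by
        have h2 := (DepthFinite.one_le_depth_atPrime_iff q M).not.mpr (not_not.mpr hq)
        rwa [Order.one_le_iff_ne_zero, not_not] at h2
      have hqM : (⟨q, hqp⟩ : PrimeSpectrum R) ∈ Module.support R M := by
        rw [Module.mem_support_iff_exists_annihilator]
        obtain ⟨y, hy⟩ := (isAssociatedPrime_iff.mp hq).2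
        refine ⟨y, ?_⟩
        intro a ha
        rw [Submodule.mem_annihilator_span_singleton] at ha
        change a ∈ q
        rw [hy, Submodule.mem_colon_singleton, Submodule.mem_bot]
        exact ha
      have h3 := hdep ⟨q, hqp⟩ hqM
      have h3' : LocCoh.depth (Localization.AtPrime q) (LocalizedModule q.primeCompl M) + i = q.height := h3
      rw [h1, zero_add] at h3'
      have h4 : P.height ≤ q.height := Ideal.height_mono hPq
      rw [hn, ← h3'] at h4
      have h5 : n ≤ i := by exact_mod_cast h4
      omega
    obtain ⟨x, hxP, hx⟩ := (DepthFinite.exists_isSMulRegular_mem_iff P M).mpr hno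
    refine ⟨QuotSMulTop x M, inferInstance, inferInstance, inferInstance, ?_, ?_⟩
    · rw [Module.support_quotSMulTop]
      exact ⟨hPM, by simpa using hxP⟩
    · intro p hp
      rw [Module.support_quotSMulTop] at hp
      have hxp : x ∈ p.asIdeal := by simpa using hp.2
      have h1 : IsSMulRegular (LocalizedModule p.asIdeal.primeCompl M)
          (algebraMap R (Localization.AtPrime p.asIdeal) x) := by
        rw [DepthFinite.isSMulRegular_localizedModule_iff]
        intro m s hs h
        refine ⟨s, hs, ?_⟩
        rw [smul_comm] at h
        apply hx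
        change x • s • m = x • 0
        rw [h, smul_zero]
      have h2 := DepthFinite.quotSMulTop_add_one_le_iff p.asIdeal hxp M h1
      have h3 := hdep p hp.1
      rw [← h3, ← h2, add_assoc]
      congr 1
      push_cast
      rw [add_comm]

/-- For `R` Cohen-Macaulay and `P` prime there is a finite module `M` with `P ∈ Ass M` and
`depth M_p + ht P = ht p` on the support of `M`. -/
theorem exists_module (P : Ideal R) [hP : P.IsPrime]
    (hCM : ∀ (p : Ideal R) [p.IsPrime],
      LocCoh.depth (Localization.AtPrime p) (Localization.AtPrime p) = p.height) :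
    ∃ (M : Type u) (_ : AddCommGroup M) (_ : Module R M), Module.Finite R M ∧
      P ∈ associatedPrimes R M ∧
      ∀ p : PrimeSpectrum R, p ∈ Module.support R M →
        LocCoh.depth (Localization.AtPrime p.asIdeal) (LocalizedModule p.asIdeal.primeCompl M) +
          P.height = p.asIdeal.height := by
  obtain ⟨n, hn⟩ := ENat.ne_top_iff_exists.mp (Ideal.height_ne_top_of_isPrime (I := P))
  obtain ⟨M, i1, i2, hfin, hPM, hdep⟩ := exists_module_aux R P n hn.symm hCM n le_rfl
  refine ⟨M, i1, i2, hfin, ?_, fun p hp => by rw [← hn]; exact hdep p hp⟩
  have h1 := hdep ⟨P, hP⟩ hPM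
  have h1' : LocCoh.depth (Localization.AtPrime P) (LocalizedModule P.primeCompl M) + n = P.height := h1
  rw [← hn] at h1'
  have h2 : LocCoh.depth (Localization.AtPrime P) (LocalizedModule P.primeCompl M) = 0 := by
    have h3 : LocCoh.depth (Localization.AtPrime P) (LocalizedModule P.primeCompl M) + n = 0 + n := by
      rw [h1', zero_add]
    exact ENat.add_left_injective_of_ne_top (ENat.natCast_ne_top n) h3
  by_contra hcon
  have h3 := (DepthFinite.one_le_depth_atPrime_iff P M).mpr hcon
  rw [h2] at h3
  exact absurd h3 (by simp)

end K111.CMEmbed
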