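import Groth.Agent.Sga3C.DimTop

/-!
# Comparing the dimensions of two spaces through specializations

* `krullDim_le_of_lift_lt`: chains lift along a surjective map along which smaller elements lift.
* `topologicalKrullDim_le_of_discreteFibres`: no specializations inside the fibres.
* `topologicalKrullDim_le_of_generalizing`, `topologicalKrullDim_le_of_isClosedMap`.
-/

set_option autoImplicit false

namespace K111.DimSpec

open TopologicalSpace Order Topology

universe u

section Ord

variable {P Q : Type*} [Preorder P] [Preorder Q]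

theorem exists_ltSeries_lift (f : P → Q) (h : ∀ a : P, ∀ b < f a, ∃ a' < a, f a' = b) (n : ℕ) :
    ∀ (p : LTSeries Q), p.length = n → ∀ x : P, f x = p.last →
      ∃ q : LTSeries P, q.length = n ∧ q.last = x := by
  induction n with
  | zero => exact fun p _ x _ => ⟨RelSeries.singleton _ x, rfl, rfl⟩
  | succ n ih =>
    intro p hp x hx
    have h0 : p.length ≠ 0 := by omega
    have hlt : p.eraseLast.last < f x := by
      rw [hx]
      exact p.eraseLast_last_rel_last h0
    obtain ⟨a', ha', hfa'⟩ := h x _ hlt
    obtain ⟨q, hq, hqx⟩ := ih p.eraseLast (by rw [RelSeries.eraseLast_length]; omega) a' hfa'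
    refine ⟨q.snoc x (by rw [hqx]; exact ha'), ?_, ?_⟩
    · rw [RelSeries.snoc_length, hq]
    · exact RelSeries.last_snoc _ _ _

theorem krullDim_le_of_lift_lt (f : P → Q) (hs : Function.Surjective f)
    (h : ∀ a : P, ∀ b < f a, ∃ a' < a, f a' = b) : krullDim Q ≤ krullDim P := by
  refine iSup_le fun p => ?_
  obtain ⟨x, hx⟩ := hs p.last
  obtain ⟨q, hq, -⟩ := exists_ltSeries_lift f h p.length p rfl x hx
  rw [← hq]
  exact q.length_le_krullDim

theorem krullDim_le_of_lift_gt (f : P → Q) (hs : Function.Surjective f)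
    (h : ∀ a : P, ∀ b, f a < b → ∃ a', a < a' ∧ f a' = b) : krullDim Q ≤ krullDim P := by
  rw [← krullDim_orderDual (α := P), ← krullDim_orderDual (α := Q)]
  refine krullDim_le_of_lift_lt (P := Pᵒᵈ) (Q := Qᵒᵈ) (fun a => OrderDual.toDual (f (OrderDual.ofDual a)))
    (fun b => ?_) (fun a b hb => ?_)
  · obtain ⟨a, ha⟩ := hs (OrderDual.ofDual b)
    exact ⟨OrderDual.toDual a, by simp [ha]⟩
  · obtain ⟨a', ha', hfa'⟩ := h (OrderDual.ofDual a) (OrderDual.ofDual b) hb
    exact ⟨OrderDual.toDual a', ha', by simp [hfa']⟩

end Ord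

attribute [local instance] specializationOrder

variable {X Y : Type*} [TopologicalSpace X] [TopologicalSpace Y] [T0Space X] [T0Space Y]
  [QuasiSober X] [QuasiSober Y]

/-- If a continuous map has no nontrivial specializations inside its fibres, it does not lower the
dimension. -/
theorem topologicalKrullDim_le_of_discreteFibres (f : X → Y) (hf : Continuous f)
    (hd : ∀ x x' : X, x ⤳ x' → f x = f x' → x = x') :
    topologicalKrullDim X ≤ topologicalKrullDim Y := by
  rw [Groth.Agent.Sga3C.DimTop.topologicalKrullDim_eq_krullDim,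
    Groth.Agent.Sga3C.DimTop.topologicalKrullDim_eq_krullDim]
  refine krullDim_le_of_strictMono f fun a b hab => ?_
  refine lt_of_le_of_ne ?_ ?_
  · exact (Groth.Agent.Sga3C.DimTop.le_iff_specializes.mp hab.le).map hf
  · intro he
    exact hab.ne ((hd b a (Groth.Agent.Sga3C.DimTop.le_iff_specializes.mp hab.le) he.symm).symm)

/-- A surjective map along which generalizations lift does not raise the dimension. -/
theorem topologicalKrullDim_le_of_generalizing (f : X → Y) (hs : Function.Surjective f)
    (hg : ∀ (x : X) (y : Y), y ⤳ f x → ∃ x', x' ⤳ x ∧ f x' = y) :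
    topologicalKrullDim Y ≤ topologicalKrullDim X := by
  rw [Groth.Agent.Sga3C.DimTop.topologicalKrullDim_eq_krullDim,
    Groth.Agent.Sga3C.DimTop.topologicalKrullDim_eq_krullDim]
  refine krullDim_le_of_lift_gt f hs fun a b hab => ?_
  obtain ⟨a', ha', hfa'⟩ := hg a b (Groth.Agent.Sga3C.DimTop.le_iff_specializes.mp hab.le)
  refine ⟨a', lt_of_le_of_ne (Groth.Agent.Sga3C.DimTop.le_iff_specializes.mpr ha') ?_, hfa'⟩
  rintro rfl
  exact hab.ne hfa'

/-- A surjective map along which specializations lift does not raise the dimension. -/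
theorem topologicalKrullDim_le_of_specializing (f : X → Y) (hs : Function.Surjective f)
    (hg : ∀ (x : X) (y : Y), f x ⤳ y → ∃ x', x ⤳ x' ∧ f x' = y) :
    topologicalKrullDim Y ≤ topologicalKrullDim X := by
  rw [Groth.Agent.Sga3C.DimTop.topologicalKrullDim_eq_krullDim,
    Groth.Agent.Sga3C.DimTop.topologicalKrullDim_eq_krullDim]
  refine krullDim_le_of_lift_lt f hs fun a b hab => ?_
  obtain ⟨a', ha', hfa'⟩ := hg a b (Groth.Agent.Sga3C.DimTop.le_iff_specializes.mp hab.le)
  refine ⟨a', lt_of_le_of_ne (Groth.Agent.Sga3C.DimTop.le_iff_specializes.mpr ha') ?_, hfa'⟩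
  rintro rfl
  exact hab.ne hfa'.symm

/-- A closed surjective map does not raise the dimension. -/
theorem topologicalKrullDim_le_of_isClosedMap (f : X → Y) (hs : Function.Surjective f)
    (hc : IsClosedMap f) : topologicalKrullDim Y ≤ topologicalKrullDim X := by
  refine topologicalKrullDim_le_of_specializing f hs fun x y hxy => ?_
  have : y ∈ f '' closure {x} := by
    have h1 : IsClosed (f '' closure {x}) := hc _ isClosed_closure
    have h2 : closure {f x} ⊆ f '' closure {x} :=
      closure_minimal (Set.singleton_subset_iff.mpr ⟨x, subset_closure rfl, rfl⟩) h1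
    exact h2 (specializes_iff_mem_closure.mp hxy)
  obtain ⟨x', hx', rfl⟩ := this
  exact ⟨x', specializes_iff_mem_closure.mpr hx', rfl⟩

end K111.DimSpec
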