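import Groth.Agent.S2670
import Groth.Agent.Ega4B.FibDesc
import Groth.Agent.Ega4C.NormalRing2
import Mathlib.LinearAlgebra.TensorProduct.Finiteness

/-!
# Base change of normal homomorphisms

* `isNormalHom_baseChange`: if `A → B` is a normal homomorphism of Noetherian rings and `N` is any
  `A`-algebra then `N → N ⊗[A] B` is a normal homomorphism.
* `exists_subalgebra_of_setFinite`: finitely many elements of `A' ⊗[A] B` come from `A' ⊗[A] B₀` for a
  finitely generated subalgebra `B₀` of `B`.
-/

set_option autoImplicit false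

universe u v w

open TensorProduct

namespace K111.NormHomBC

open Groth.Agent Groth.Agent.Ega4B.FibDesc

theorem isNormalHom_baseChange (A B N : Type u) [CommRing A] [CommRing B] [CommRing N]
    [IsNoetherianRing A] [IsNoetherianRing B]
    [Algebra A B] [Algebra A N] (h : EGA4.IsNormalHom A B) :
    EGA4.IsNormalHom N (N ⊗[A] B) := by
  have hfl : Module.Flat A B := h.1
  refine ⟨inferInstance, fun q _ k' _ _ hfin => ?_⟩
  let algN : Algebra N k' := ((algebraMap q.ResidueField k').comp (algebraMap N _)).toAlgebra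
  have towN : IsScalarTower N q.ResidueField k' := IsScalarTower.of_algebraMap_eq fun _ => rfl
  let algA : Algebra A k' := ((algebraMap N k').comp (algebraMap A _)).toAlgebra
  have towA : IsScalarTower A N k' := IsScalarTower.of_algebraMap_eq fun _ => rfl
  have h1 : EGA4.IsNormalRing (B ⊗[A] k') :=
    Groth.Agent.S2670.result A B h k' (Groth.Agent.Ega4C.NormalRing2.isNormalRing_of_isDomain k')
  have h2 : EGA4.IsNormalRing (k' ⊗[A] B) := isNormalRing_of_ringEquiv
    (Algebra.TensorProduct.comm A B k').toRingEquiv h1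
  have h3 : EGA4.IsNormalRing (k' ⊗[N] (N ⊗[A] B)) := isNormalRing_of_ringEquiv
    (Algebra.TensorProduct.cancelBaseChange A N k' k' B).symm.toRingEquiv h2
  exact isNormalRing_of_ringEquiv
    (Algebra.TensorProduct.cancelBaseChange N q.ResidueField k' k' (N ⊗[A] B)).symm.toRingEquiv h3

theorem exists_subalgebra_of_setFinite {A : Type u} {A' : Type v} {B : Type w} [CommRing A]
    [CommRing A'] [CommRing B] [Algebra A A'] [Algebra A B] (s : Set (A' ⊗[A] B)) (hs : s.Finite) :
    ∃ B₀ : Subalgebra A B, B₀.FG ∧
      s ⊆ (Algebra.TensorProduct.map (AlgHom.id A' A') B₀.val).range := by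
  obtain ⟨M, hM, hsM⟩ := TensorProduct.exists_finite_submodule_right_of_setFinite s hs
  obtain ⟨t, ht⟩ := Module.Finite.iff_fg.mp hM
  refine ⟨Algebra.adjoin A (t : Set B), ⟨t, rfl⟩, fun x hx => ?_⟩
  obtain ⟨y, rfl⟩ := hsM hx
  have hle : M ≤ (Algebra.adjoin A (t : Set B)).toSubmodule := by
    rw [← ht]
    exact Submodule.span_le.mpr Algebra.subset_adjoin
  refine ⟨(Submodule.inclusion hle).lTensor A' y, ?_⟩
  clear hx
  induction y with
  | zero => simp
  | add a b ha hb => rw [map_add, map_add, map_add, ha, hb]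
  | tmul a b => rfl

end K111.NormHomBC
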