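import Groth.Agent.EGA4.K111.CMEmbed
import Groth.Agent.Ega4C.ZClosed
import Groth.Agent.Ega4C.ZTransformSheaf
import Groth.Agent.Ega4C.ZTransformCodim
import Groth.Agent.Ega4A.DepthBasic

/-!
# Sections outside codimension two over a quotient of a regular ring

`PZ_of_surjective_regular`: `B` a domain, quotient of a regular Noetherian ring `R`, `J` an ideal of `B` of height
at least two: the `V(J)`-transform of `B` is finite.
-/

set_option autoImplicit false
universe u

namespace K111.PZRegular

open Groth.Agent.Ega4C.ZTransform Groth.Agent.Ega4C.ZTransformSheaf Groth.Agent.Ega4C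

/-- A prime of height at least two contains a chain of primes of length two. -/
theorem exists_chain_of_two_le_height {B : Type*} [CommRing B] (q : Ideal B) [q.IsPrime]
    (h : (2 : ℕ∞) ≤ q.height) :
    ∃ (q₀ q₁ : Ideal B), q₀.IsPrime ∧ q₁.IsPrime ∧ q₀ < q₁ ∧ q₁ < q := by
  have h1 : ¬ q.height ≤ (1 : ℕ) := by
    intro hle
    have := h.trans hle
    exact absurd this (by decide)
  rw [Ideal.height_le_iff] at h1
  push Not at h1
  obtain ⟨q₁, hq₁, hlt, hh⟩ := h1
  have h2 : ¬ q₁.height ≤ (0 : ℕ) := by
    intro hle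
    have := hh.trans hle
    exact absurd this (by decide)
  rw [Ideal.height_le_iff] at h2
  push Not at h2
  obtain ⟨q₀, hq₀, hlt', -⟩ := h2
  exact ⟨q₀, q₁, hq₀, hq₁, hlt', hlt⟩

theorem PZ_of_surjective_regular (R B : Type u) [CommRing R] [IsRegularRing R]
    [CommRing B] [IsDomain B] [Algebra R B] (hs : Function.Surjective (algebraMap R B)) (J : Ideal B)
    (hJ : (2 : ℕ∞) ≤ J.height) : PZ (PrimeSpectrum.zeroLocus (J : Set B)) B := by
  have hNB : IsNoetherianRing B := isNoetherianRing_of_surjective R B _ hs
  have hfB : Module.Finite R B := Module.Finite.of_surjective (Algebra.linearMap R B) hs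
  let P : Ideal R := RingHom.ker (algebraMap R B)
  have hP : P.IsPrime := RingHom.ker_isPrime _
  obtain ⟨M, _, _, hfin, hPM, hdep⟩ := CMEmbed.exists_module R P
    (fun p _ => CMEmbed.depth_eq_height_of_isRegularRing R p)
  let J' : Ideal R := J.comap (algebraMap R B)
  -- heights of the primes containing `J'`
  have hht : ∀ p : PrimeSpectrum R, J' ≤ p.asIdeal → P.height + 2 ≤ p.asIdeal.height := by
    intro p hp
    have hPp : P ≤ p.asIdeal := le_trans (Ideal.comap_mono bot_le) hp
    have hq : (p.asIdeal.map (algebraMap R B)).IsPrime := Ideal.map_isPrime_of_surjective hs hPp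
    have hcm : (p.asIdeal.map (algebraMap R B)).comap (algebraMap R B) = p.asIdeal := by
      rw [Ideal.comap_map_of_surjective _ hs, ← RingHom.ker_eq_comap_bot, sup_eq_left.mpr hPp]
    have hJq : J ≤ p.asIdeal.map (algebraMap R B) := by
      rw [← Ideal.map_comap_of_surjective _ hs J]
      exact Ideal.map_mono hp
    obtain ⟨q₀, q₁, h0, h1, h01, h1q⟩ := exists_chain_of_two_le_height (p.asIdeal.map (algebraMap R B))
      (hJ.trans (Ideal.height_mono hJq))
    have hlt : ∀ I I' : Ideal B, I < I' → I.comap (algebraMap R B) < I'.comap (algebraMap R B) := by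
      intro I I' h
      refine lt_of_le_of_ne (Ideal.comap_mono h.le) fun he => h.ne ?_
      rw [← Ideal.map_comap_of_surjective _ hs I, he, Ideal.map_comap_of_surjective _ hs I']
    have e0 : (q₀.comap (algebraMap R B)).IsPrime := Ideal.comap_isPrime _ _
    have e1 : (q₁.comap (algebraMap R B)).IsPrime := Ideal.comap_isPrime _ _
    have hpp : p.asIdeal.IsPrime := p.2
    have k0 : P.height ≤ (q₀.comap (algebraMap R B)).height :=
      Ideal.height_mono (Ideal.comap_mono bot_le)
    have k1 := Ideal.height_add_one_le_of_lt_of_isPrime (hlt q₀ q₁ h01)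
    have k2 : (q₁.comap (algebraMap R B)).height + 1 ≤ p.asIdeal.height := by
      apply Ideal.height_add_one_le_of_lt_of_isPrime
      rw [← hcm]
      exact hlt _ _ h1q
    calc P.height + 2 = P.height + 1 + 1 := by rw [add_assoc, one_add_one_eq_two]
      _ ≤ (q₀.comap (algebraMap R B)).height + 1 + 1 := by gcongr
      _ ≤ (q₁.comap (algebraMap R B)).height + 1 := by gcongr
      _ ≤ _ := k2
  -- depth of `M` at the primes containing `J'`
  have hdep2 : ∀ p : PrimeSpectrum R, J' ≤ p.asIdeal → (2 : ℕ∞) ≤
      LocCoh.depth (Localization.AtPrime p.asIdeal) (LocalizedModule p.asIdeal.primeCompl M) := by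
    intro p hp
    by_cases hpM : p ∈ Module.support R M
    · have h1 := hdep p hpM
      have h2 := hht p hp
      rw [← h1, add_comm] at h2
      exact (ENat.add_le_add_iff_right (Ideal.height_ne_top_of_isPrime (I := P))).mp h2
    · have : Subsingleton (LocalizedModule p.asIdeal.primeCompl M) := Module.notMem_support_iff.mp hpM
      have h1 : LocCoh.depth (Localization.AtPrime p.asIdeal)
          (LocalizedModule p.asIdeal.primeCompl M) = ⊤ :=
        Groth.Agent.Ega4A.DepthBasic.idealDepth_of_subsingleton _ _
      rw [h1]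
      exact le_top
  have hsurj := ZClosed.surjective_toSec_of_two_le_depth hdep2
  have hfinS : Module.Finite R (RestrCompl.Sec R J' M) := Module.Finite.of_surjective _ hsurj
  have hPZM : PZ (PrimeSpectrum.zeroLocus (J' : Set R)) M := by
    rw [← isCoherentPushCompl_iff_PZ, RestrCompl2.isCoherentPushCompl_iff]
    exact hfinS
  -- embed `B` in `M`
  obtain ⟨g, hg⟩ := ((isAssociatedPrime_iff_exists_injective_linearMap P M).mp hPM).2
  let e : (R ⧸ P) ≃ₗ[R] B := (Ideal.quotientKerAlgEquivOfSurjective (f := Algebra.ofId R B) hs).toLinearEquiv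
  have hPZB : PZ (PrimeSpectrum.zeroLocus (J' : Set R)) B :=
    PZ.of_injective (g ∘ₗ e.symm.toLinearMap) (hg.comp e.symm.injective) hPZM
  have hZ : StableUnderSpecialization (PrimeSpectrum.zeroLocus (J' : Set R)) :=
    (PrimeSpectrum.isClosed_zeroLocus _).stableUnderSpecialization
  have h3 := (PZ_iff_of_finite (B := B) (M := B) hZ).mp hPZB
  rw [preZ_zeroLocus, Ideal.map_comap_of_surjective _ hs] at h3
  exact h3

end K111.PZRegular
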