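import Groth.Agent.Ega4B.DepthFinite
import Groth.Agent.Ega4B.DimFinite
import Groth.Agent.Ega4B.DepthTransfer
import Groth.Agent.Ega4A.DepthBasic
import Mathlib.Algebra.Module.LocalizedModule.IsLocalization

/-!
# Depth and dimension of a module finite over a subring

`M` a `B`-module finite over `A`; comparison of `(depth, dim)` of `M_p` over `A_p` and of `M_q` over
`B_q`, `q` over `p`; and of a local ring with its localization at the maximal ideal.
-/

set_option autoImplicit false
universe u

namespace K111.RestrDepth

open IsLocalRing Groth.Agent.Ega4B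

theorem isLocalizedModule_id {R : Type*} [CommRing R] (S : Submonoid R) (hS : S ≤ IsUnit.submonoid R)
    (M : Type*) [AddCommGroup M] [Module R M] : IsLocalizedModule S (LinearMap.id : M →ₗ[R] M) where
  map_units s := by
    obtain ⟨u, hu⟩ := hS s.2
    rw [← hu]
    exact (u.isUnit).map (algebraMap R (Module.End R M))
  surj y := ⟨(y, 1), by simp⟩
  exists_of_eq h := ⟨1, by simpa using h⟩

section Local

variable (A : Type u) [CommRing A] [IsLocalRing A] (M : Type u) [AddCommGroup M] [Module A M]

theorem exists_equiv : ∃ e : M ≃+ LocalizedModule (maximalIdeal A).primeCompl M,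
    ∀ (a : A) (m : M), e (a • m) = (algebraMap A (Localization.AtPrime (maximalIdeal A)) a) • e m := by
  have hS : (maximalIdeal A).primeCompl ≤ IsUnit.submonoid A := by
    intro x hx
    exact IsLocalRing.notMem_maximalIdeal.mp hx
  have := isLocalizedModule_id (maximalIdeal A).primeCompl hS M
  let e := IsLocalizedModule.linearEquiv (maximalIdeal A).primeCompl
    (LinearMap.id : M →ₗ[A] M) (LocalizedModule.mkLinearMap (maximalIdeal A).primeCompl M)
  refine ⟨e.toAddEquiv, fun a m => ?_⟩
  have h1 : e (a • m) = a • e m := e.map_smul a m
  rw [algebraMap_smul]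
  exact h1

theorem algebraMap_surjective :
    Function.Surjective (algebraMap A (Localization.AtPrime (maximalIdeal A))) := by
  have hS : (maximalIdeal A).primeCompl ≤ IsUnit.submonoid A := by
    intro x hx
    exact IsLocalRing.notMem_maximalIdeal.mp hx
  exact (IsLocalization.atUnits A (maximalIdeal A).primeCompl hS
    (S := Localization.AtPrime (maximalIdeal A))).surjective

theorem depth_localization_maximalIdeal :
    LocCoh.depth (Localization.AtPrime (maximalIdeal A)) (LocalizedModule (maximalIdeal A).primeCompl M) =
      LocCoh.depth A M := by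
  obtain ⟨e, he⟩ := exists_equiv A M
  exact DepthTransfer.depth_eq (algebraMap A (Localization.AtPrime (maximalIdeal A))) e he
    (algebraMap_surjective A)

theorem supportDim_localization_maximalIdeal :
    Module.supportDim (Localization.AtPrime (maximalIdeal A)) (LocalizedModule (maximalIdeal A).primeCompl M) =
      Module.supportDim A M := by
  obtain ⟨e, he⟩ := exists_equiv A M
  exact DepthTransfer.supportDim_eq (algebraMap A (Localization.AtPrime (maximalIdeal A))) e he
    (algebraMap_surjective A)

end Local

section Restr

variable {A B : Type u} [CommRing A] [CommRing B] [Algebra A B] [IsNoetherianRing A] [IsNoetherianRing B]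
  (M : Type u) [AddCommGroup M] [Module A M] [Module B M] [IsScalarTower A B M] [Module.Finite A M]

theorem depth_le (p : Ideal A) [p.IsPrime] (q : Ideal B) [q.IsPrime] (hq : q.comap (algebraMap A B) = p) :
    LocCoh.depth (Localization.AtPrime p) (LocalizedModule p.primeCompl M) ≤
      LocCoh.depth (Localization.AtPrime q) (LocalizedModule q.primeCompl M) := by
  rw [← ENat.forall_natCast_le_iff_le]
  intro n hn
  exact (DepthFinite.natCast_le_depth_atPrime_iff (B := B) p n M).mp hn q hq

theorem supportDim_le (p : Ideal A) [p.IsPrime] (q : PrimeSpectrum B)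
    (hq : q.asIdeal.comap (algebraMap A B) = p) (hqM : q ∈ Module.support B M) :
    Module.supportDim (Localization.AtPrime q.asIdeal) (LocalizedModule q.asIdeal.primeCompl M) ≤
      Module.supportDim (Localization.AtPrime p) (LocalizedModule p.primeCompl M) := by
  rw [DimFinite.supportDim_atPrime_restrictScalars (B := B) p M]
  exact le_iSup₂_of_le q ⟨hq, hqM⟩ le_rfl

/-- The depth of `M_q` is infinite when `M_q = 0`. -/
theorem depth_eq_top {B : Type u} [CommRing B] (M : Type u) [AddCommGroup M] [Module B M]
    (q : PrimeSpectrum B) (hq : q ∉ Module.support B M) :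
    LocCoh.depth (Localization.AtPrime q.asIdeal) (LocalizedModule q.asIdeal.primeCompl M) = ⊤ := by
  have : Subsingleton (LocalizedModule q.asIdeal.primeCompl M) := Module.notMem_support_iff.mp hq
  exact Groth.Agent.Ega4A.DepthBasic.idealDepth_of_subsingleton _ _

theorem depth_le_supportDim_atPrime {B : Type u} [CommRing B] [IsNoetherianRing B]
    (M : Type u) [AddCommGroup M] [Module B M] [Module.Finite B M]
    (q : PrimeSpectrum B) (hq : q ∈ Module.support B M) :
    ((LocCoh.depth (Localization.AtPrime q.asIdeal) (LocalizedModule q.asIdeal.primeCompl M) : ℕ∞) :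
      WithBot ℕ∞) ≤
      Module.supportDim (Localization.AtPrime q.asIdeal) (LocalizedModule q.asIdeal.primeCompl M) := by
  have : Nontrivial (LocalizedModule q.asIdeal.primeCompl M) := Module.mem_support_iff.mp hq
  exact Groth.Agent.Ega4A.DepthBasic.depth_le_supportDim _

end Restr

end K111.RestrDepth
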